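import Groth.Agent.L28.Leray.Trunc
import Groth.Agent.L27.CompTransfer.Transfer
import Groth.Agent.L10.EtLocalBC.QLocal

/-! # The comparison condition in terms of the unit and the higher direct images -/

universe u

open CategoryTheory CategoryTheory.Limits AlgebraicGeometry Opposite CategoryTheory.Abelian

set_option autoImplicit false
set_option backward.isDefEq.respectTransparency.types false
set_option linter.style.haveILetI false

noncomputable section

namespace Groth.L28.AcycCrit

open Groth.L27.LimCoh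

variable {W Z W' Z' : Scheme.{u}}

/-- Pullback on cohomology and the comparison map, when the unit is invertible. -/
theorem Hpull_iff_phi (f : W ⟶ Z) [PreservesFiniteLimits (EtCoh.pull f)] (G : EtCoh.Ab Z)
    [IsIso ((EtCoh.pullPushAdj f).unit.app G)] (n : ℕ) :
    (Function.Bijective (EtCore.Hpull f G n) ↔ Function.Bijective
        (L27.ExtAdj.phi.{u + 1, u + 1} (EtCoh.pullPushAdj f) (EtCoh.const Z ℤ) ((EtCoh.pull f).obj G) n)) ∧
      (Function.Injective (EtCore.Hpull f G n) ↔ Function.Injective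
        (L27.ExtAdj.phi.{u + 1, u + 1} (EtCoh.pullPushAdj f) (EtCoh.const Z ℤ) ((EtCoh.pull f).obj G) n)) := by
  let η := (EtCoh.pullPushAdj f).unit.app G
  have hpost : Function.Bijective fun e : EtCoh.H Z G n => Ext.comp e (Ext.mk₀ η) (add_zero n) :=
    Function.bijective_iff_has_inverse.2
      ⟨fun e => Ext.comp e (Ext.mk₀ (inv η)) (add_zero n), fun e => by
        simp only [Ext.comp_assoc_of_third_deg_zero, Ext.mk₀_comp_mk₀, IsIso.hom_inv_id, Ext.comp_mk₀_id],
        fun e => by simp only [Ext.comp_assoc_of_third_deg_zero, Ext.mk₀_comp_mk₀, IsIso.inv_hom_id, Ext.comp_mk₀_id]⟩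
  have hpre : Function.Bijective fun e : Ext.{u + 1} ((EtCoh.pull f).obj (EtCoh.const Z ℤ)) ((EtCoh.pull f).obj G) n =>
      (Ext.mk₀ (EtCore.pullConst f ℤ).inv).comp e (zero_add n) :=
    Function.bijective_iff_has_inverse.2
      ⟨fun e => (Ext.mk₀ (EtCore.pullConst f ℤ).hom).comp e (zero_add n), fun e => by
        simp only [Ext.mk₀_comp_mk₀_assoc, Iso.hom_inv_id, Ext.mk₀_id_comp], fun e => by
        simp only [Ext.mk₀_comp_mk₀_assoc, Iso.inv_hom_id, Ext.mk₀_id_comp]⟩
  have he : (EtCore.Hpull f G n : _ → _) =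
      (fun e => (Ext.mk₀ (EtCore.pullConst f ℤ).inv).comp e (zero_add n)) ∘
        L27.ExtAdj.phi.{u + 1, u + 1} (EtCoh.pullPushAdj f) (EtCoh.const Z ℤ) ((EtCoh.pull f).obj G) n ∘
          fun e : EtCoh.H Z G n => Ext.comp e (Ext.mk₀ η) (add_zero n) :=
    funext fun e => (L27.EtSite.Hpull_apply f G n e).trans (L27.EtSite.HofPush_apply f _ n _)
  rw [he]
  exact ⟨(Function.Bijective.of_comp_iff' hpre _).trans (Function.Bijective.of_comp_iff _ hpost),
    (hpre.1.of_comp_iff _).trans (Function.Injective.of_comp_iff' _ hpost)⟩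

theorem preservesFiniteLimits_push (f : W ⟶ Z) : PreservesFiniteLimits (EtCoh.push f) := by
  have : PreservesLimitsOfSize.{0, 0} (EtCoh.push f) := (EtCoh.pullPushAdj f).rightAdjoint_preservesLimits
  exact PreservesLimitsOfSize.preservesFiniteLimits _

/-- An invertible unit and vanishing higher direct images give the comparison condition. -/
theorem compN_of_unit (f : W ⟶ Z) [PreservesFiniteLimits (EtCoh.pull f)] (G : EtCoh.Ab Z) (n : ℕ)
    [IsIso ((EtCoh.pullPushAdj f).unit.app G)]
    (hR : ∀ q : ℕ, 0 < q → q ≤ n → IsZero ((EtCoh.Rpush f q).obj ((EtCoh.pull f).obj G))) :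
    (∀ q : ℕ, q ≤ n → Function.Bijective (EtCore.Hpull f G q)) ∧
      Function.Injective (EtCore.Hpull f G (n + 1)) := by
  haveI := preservesFiniteLimits_push f
  obtain ⟨h1, h2⟩ := Leray.bijective_phi_of_le.{u + 1, u + 1} (EtCoh.pullPushAdj f) (A := EtCoh.const Z ℤ) n _ hR
  exact ⟨fun q hq => (Hpull_iff_phi f G q).1.2 (h1 q hq), (Hpull_iff_phi f G (n + 1)).2.2 h2⟩

variable (f : W ⟶ Z) (v : Z' ⟶ Z) (f' : W' ⟶ Z') (g' : W' ⟶ W) (w : g' ≫ f = f' ≫ v)

/-- Inverse images along the two sides of a commutative square. -/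
def kap : EtCoh.pull v ⋙ EtCoh.pull f' ≅ EtCoh.pull f ⋙ EtCoh.pull g' :=
  Adjunction.leftAdjointUniq ((EtCoh.pullPushAdj v).comp (EtCoh.pullPushAdj f'))
    (((EtCoh.pullPushAdj f).comp (EtCoh.pullPushAdj g')).ofNatIsoRight (L10.EtBCComp.sqIso f v f' g' w))

theorem unit_square (F : EtCoh.Ab Z) :
    (EtCoh.pull v).map ((EtCoh.pullPushAdj f).unit.app F) ≫
        EtCoh.baseChange0 f v f' g' w ((EtCoh.pull f).obj F) =
      (EtCoh.pullPushAdj f').unit.app ((EtCoh.pull v).obj F) ≫
        (EtCoh.push f').map ((kap f v f' g' w).hom.app F) := by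
  refine ((EtCoh.pullPushAdj v).homEquiv _ _).injective ?_
  have h := Adjunction.unit_leftAdjointUniq_hom_app ((EtCoh.pullPushAdj v).comp (EtCoh.pullPushAdj f'))
    (((EtCoh.pullPushAdj f).comp (EtCoh.pullPushAdj g')).ofNatIsoRight (L10.EtBCComp.sqIso f v f' g' w)) F
  rw [Adjunction.homEquiv_unit, Adjunction.homEquiv_unit, Functor.map_comp, Functor.map_comp]
  refine ((Category.assoc _ _ _).symm.trans ((congrArg (· ≫ (EtCoh.push v).map (EtCoh.baseChange0 f v f' g' w
    ((EtCoh.pull f).obj F))) ((EtCoh.pullPushAdj v).unit.naturality ((EtCoh.pullPushAdj f).unit.app F)).symm).trans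
    ((Category.assoc _ _ _).trans (congrArg (_ ≫ ·) (L10.EtLocalBC.baseChange0_transpose w _))))).trans ?_
  refine Eq.trans ?_ (h.symm.trans ?_)
  · simp [Adjunction.ofNatIsoRight, Adjunction.comp_unit_app]
  · simp [kap, Adjunction.comp_unit_app]

/-- Sections over the top object of a restriction. -/
theorem bijective_top_iff [Etale v] {A B : EtCoh.Ab Z} (φ : A ⟶ B) :
    Function.Bijective (((EtCoh.pull v).map φ).hom.app (op (EtCoh.top Z'))) ↔
      Function.Bijective (φ.hom.app (op ((EtShriek.compEtale v).obj (EtCoh.top Z')))) := by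
  haveI := L27.ExtZero.jCont v
  let T := op (EtCoh.top Z')
  let e := L27.ExtZero.pullRestr v
  have ha := ConcreteCategory.bijective_of_isIso (((sheafToPresheaf _ _).map (e.hom.app A)).app T)
  have hb := ConcreteCategory.bijective_of_isIso (((sheafToPresheaf _ _).map (e.hom.app B)).app T)
  have hn : (e.hom.app B).hom.app T ∘ ((EtCoh.pull v).map φ).hom.app T =
      φ.hom.app (op ((EtShriek.compEtale v).obj (EtCoh.top Z'))) ∘ (e.hom.app A).hom.app T :=
    funext fun s => congrArg (fun m => m.hom.app T s) (e.hom.naturality φ)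
  exact ((Function.Bijective.of_comp_iff' hb _).symm.trans (iff_of_eq (congrArg _ hn))).trans
    (Function.Bijective.of_comp_iff _ ha)

theorem subsingleton_top_iff [Etale v] (A : EtCoh.Ab Z) :
    Subsingleton (((EtCoh.pull v).obj A).obj.obj (op (EtCoh.top Z'))) ↔
      Subsingleton (A.obj.obj (op ((EtShriek.compEtale v).obj (EtCoh.top Z')))) := by
  haveI := L27.ExtZero.jCont v
  exact (Equiv.ofBijective _ (ConcreteCategory.bijective_of_isIso
    (((sheafToPresheaf _ _).map ((L27.ExtZero.pullRestr v).hom.app A)).app (op (EtCoh.top Z'))))).subsingleton_congr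

omit f v f' g' w in
/-- An object of the small etale site as the image of the top object. -/
def topIso (V : Z.Etale) (vV : V.left ⟶ Z) [Etale vV] (hv : vV = V.hom) :
    (EtShriek.compEtale vV).obj (EtCoh.top V.left) ≅ V :=
  MorphismProperty.Over.isoMk (Iso.refl _) (by subst hv; exact rfl)

omit f v f' g' w in
theorem subsingleton_top_of_hom (G : EtCoh.Ab Z) (h : ∀ a : EtCoh.const Z ℤ ⟶ G, a = 0) :
    Subsingleton (G.obj.obj (op (EtCoh.top Z))) := by
  refine (secEq G).toEquiv.subsingleton_congr.1 ⟨fun x y => ?_⟩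
  obtain ⟨a, rfl⟩ := (Ext.mk₀_bijective _ _).2 x
  obtain ⟨b, rfl⟩ := (Ext.mk₀_bijective _ _).2 y
  rw [h a, h b]

omit f v f' g' w in
theorem isZero_of_sections (G : EtCoh.Ab Z) (h : ∀ U : Z.Etale, Subsingleton (G.obj.obj (op U))) : IsZero G :=
  (IsZero.iff_id_eq_zero _).2 (ObjectProperty.hom_ext _ (NatTrans.ext (funext fun U =>
    ConcreteCategory.hom_ext _ _ fun _ => @Subsingleton.elim _ (h U.unop) _ _)))

omit v f' g' w in
/-- Degree zero: bijectivity over all etale neighbourhoods makes the unit invertible. -/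
theorem isIso_unit (F : EtCoh.Ab Z)
    (H : ∀ V' : Z.Etale, ∃ (W' : Scheme.{u}) (f' : W' ⟶ V'.left) (g' : W' ⟶ W) (v : V'.left ⟶ Z),
      v = V'.hom ∧ IsPullback g' f' f v ∧ ∀ [PreservesFiniteLimits (EtCoh.pull f')],
        Function.Bijective (EtCore.Hpull f' ((EtCoh.pull v).obj F) 0)) :
    IsIso ((EtCoh.pullPushAdj f).unit.app F) := by
  haveI : IsIso ((sheafToPresheaf _ _).map ((EtCoh.pullPushAdj f).unit.app F)) := by
    haveI : ∀ U : Z.Etaleᵒᵖ, IsIso (((sheafToPresheaf _ _).map ((EtCoh.pullPushAdj f).unit.app F)).app U) := fun U => by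
      obtain ⟨W', f', g', v, hv, hsq, hb⟩ := H U.unop
      haveI : Etale v := hv ▸ U.unop.prop
      haveI := L27.EtSite.preservesFiniteLimits_pull f'
      haveI := L10.EtLocalBC.isIso_baseChange0_of_etale hsq ((EtCoh.pull f).obj F)
      have h0 := (L27.CompTransfer.bijective_Hpull_zero_iff f' _).1 hb
      let T := op (EtCoh.top U.unop.left)
      let c := EtCoh.baseChange0 f v f' g' hsq.w ((EtCoh.pull f).obj F)
      let k := (EtCoh.push f').map ((kap f v f' g' hsq.w).hom.app F)
      have h1 : Function.Bijective (c.hom.app T ∘ ((EtCoh.pull v).map ((EtCoh.pullPushAdj f).unit.app F)).hom.app T) := by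
        have := (ConcreteCategory.bijective_of_isIso (((sheafToPresheaf _ _).map k).app T)).comp h0
        have e : c.hom.app T ∘ ((EtCoh.pull v).map ((EtCoh.pullPushAdj f).unit.app F)).hom.app T =
            k.hom.app T ∘ ((EtCoh.pullPushAdj f').unit.app ((EtCoh.pull v).obj F)).hom.app T :=
          funext fun s => congrArg (fun m => m.hom.app T s) (unit_square f v f' g' hsq.w F)
        exact e ▸ this
      have h2 := (bijective_top_iff v _).1 (((ConcreteCategory.bijective_of_isIso
        (((sheafToPresheaf _ _).map c).app T)).of_comp_iff' _).1 h1)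
      have hn := NatTrans.naturality ((EtCoh.pullPushAdj f).unit.app F).hom (topIso U.unop v hv).hom.op
      haveI := (ConcreteCategory.isIso_iff_bijective
        (((EtCoh.pullPushAdj f).unit.app F).hom.app (op ((EtShriek.compEtale v).obj (EtCoh.top U.unop.left))))).2 h2
      show IsIso (((EtCoh.pullPushAdj f).unit.app F).hom.app U)
      haveI : IsIso (((EtCoh.pullPushAdj f).unit.app F).hom.app U ≫
          ((EtCoh.push f).obj ((EtCoh.pull f).obj F)).obj.map (topIso U.unop v hv).hom.op) := by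
        exact (congrArg (fun m => IsIso m) hn).mp inferInstance
      exact IsIso.of_isIso_comp_right _ (((EtCoh.push f).obj ((EtCoh.pull f).obj F)).obj.map (topIso U.unop v hv).hom.op)
    exact NatIso.isIso_of_isIso_app _
  exact isIso_of_reflects_iso _ (sheafToPresheaf _ _)

omit v f' g' w in
/-- The inductive step: the next higher direct image vanishes. -/
theorem isZero_succ (F : EtCoh.Ab Z) (q : ℕ)
    (H : ∀ V' : Z.Etale, ∃ (W' : Scheme.{u}) (f' : W' ⟶ V'.left) (g' : W' ⟶ W) (v : V'.left ⟶ Z),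
      v = V'.hom ∧ IsPullback g' f' f v ∧ IsIso ((EtCoh.pullPushAdj f').unit.app ((EtCoh.pull v).obj F)) ∧
        (∀ p : ℕ, 0 < p → p ≤ q → IsZero ((EtCoh.Rpush f' p).obj ((EtCoh.pull f').obj ((EtCoh.pull v).obj F)))) ∧
        ∀ [PreservesFiniteLimits (EtCoh.pull f')],
          Function.Bijective (EtCore.Hpull f' ((EtCoh.pull v).obj F) (q + 1)) ∧
            Function.Injective (EtCore.Hpull f' ((EtCoh.pull v).obj F) (q + 2))) :
    IsZero ((EtCoh.Rpush f (q + 1)).obj ((EtCoh.pull f).obj F)) := by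
  refine isZero_of_sections _ fun U => ?_
  obtain ⟨W', f', g', v, hv, hsq, hu, hvan, hb⟩ := H U
  haveI : Etale v := hv ▸ U.prop
  haveI := L27.EtSite.preservesFiniteLimits_pull f'
  haveI := L27.EtSite.preservesFiniteLimits_pull g'
  haveI := preservesFiniteLimits_push f'
  obtain ⟨hb1, hb2⟩ := @hb inferInstance
  have hz := Leray.hom_eq_zero.{u + 1, u + 1} (EtCoh.pullPushAdj f') q _ hvan ((Hpull_iff_phi f' _ (q + 1)).1.1 hb1)
    ((Hpull_iff_phi f' _ (q + 2)).2.1 hb2)
  have h0 := subsingleton_top_of_hom _ hz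
  haveI := L10.EtLocalBC.isIso_bcQ_of_etale f v f' g' hsq (q + 1) ((EtCoh.pull f).obj F)
  let i : (EtCoh.pull v).obj ((EtCoh.Rpush f (q + 1)).obj ((EtCoh.pull f).obj F)) ≅
      (EtCoh.Rpush f' (q + 1)).obj ((EtCoh.pull f').obj ((EtCoh.pull v).obj F)) :=
    asIso (EtBC.bcQ f v f' g' hsq.w (q + 1) ((EtCoh.pull f).obj F)) ≪≫
      ((EtCoh.Rpush f' (q + 1)).mapIso ((kap f v f' g' hsq.w).app F)).symm
  have h1 := (Equiv.ofBijective _ (ConcreteCategory.bijective_of_isIso
    (((sheafToPresheaf _ _).map i.hom).app (op (EtCoh.top U.left))))).subsingleton_congr.2 h0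
  have h2 := (subsingleton_top_iff v _).1 h1
  exact (Equiv.ofBijective _ (ConcreteCategory.bijective_of_isIso
    (((EtCoh.Rpush f (q + 1)).obj ((EtCoh.pull f).obj F)).obj.map (topIso U v hv).hom.op))).subsingleton_congr.2 h2

end Groth.L28.AcycCrit
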