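import Groth.Agent.L28.AcycCrit.Basic

/-! # Units and higher direct images along etale base change -/

universe u

open CategoryTheory CategoryTheory.Limits AlgebraicGeometry Opposite CategoryTheory.Abelian

set_option autoImplicit false
set_option backward.isDefEq.respectTransparency.types false
set_option linter.style.haveILetI false

noncomputable section

namespace Groth.L28.AcycCrit

open Groth.L27.LimCoh

variable {W Z W' Z' : Scheme.{u}} {f : W ⟶ Z} {v : Z' ⟶ Z} [Etale v] {f' : W' ⟶ Z'} {g' : W' ⟶ W}

/-- The unit of a base change is invertible when the unit is. -/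
theorem isIso_unit_of_square (h : IsPullback g' f' f v) (F : EtCoh.Ab Z) [IsIso ((EtCoh.pullPushAdj f).unit.app F)] :
    IsIso ((EtCoh.pullPushAdj f').unit.app ((EtCoh.pull v).obj F)) := by
  haveI := L10.EtLocalBC.isIso_baseChange0_of_etale h ((EtCoh.pull f).obj F)
  haveI : IsIso ((EtCoh.pullPushAdj f').unit.app ((EtCoh.pull v).obj F) ≫
      (EtCoh.push f').map ((kap f v f' g' h.w).hom.app F)) :=
    (congrArg (fun m => IsIso m) (unit_square f v f' g' h.w F)).mp inferInstance
  exact IsIso.of_isIso_comp_right _ ((EtCoh.push f').map ((kap f v f' g' h.w).hom.app F))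

/-- Vanishing of higher direct images passes to etale base change. -/
theorem isZero_of_square (h : IsPullback g' f' f v) (F : EtCoh.Ab Z) (p : ℕ)
    (hz : IsZero ((EtCoh.Rpush f p).obj ((EtCoh.pull f).obj F))) :
    IsZero ((EtCoh.Rpush f' p).obj ((EtCoh.pull f').obj ((EtCoh.pull v).obj F))) := by
  haveI := L27.EtSite.preservesFiniteLimits_pull g'
  haveI := L10.EtLocalBC.isIso_bcQ_of_etale f v f' g' h p ((EtCoh.pull f).obj F)
  exact (((EtCoh.pull v).map_isZero hz).of_iso
    (asIso (EtBC.bcQ f v f' g' h.w p ((EtCoh.pull f).obj F)) ≪≫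
      ((EtCoh.Rpush f' p).mapIso ((kap f v f' g' h.w).app F)).symm).symm)

omit [Etale v] in
/-- Degree zero comparison is injective exactly when the unit is injective on global sections. -/
theorem injective_Hpull_zero_iff [PreservesFiniteLimits (EtCoh.pull f)] (F : EtCoh.Ab Z) :
    Function.Injective (EtCore.Hpull f F 0) ↔
      Function.Injective (((EtCoh.pullPushAdj f).unit.app F).hom.app (op (EtCoh.top Z))) := by
  let η : F ⟶ (EtCoh.push f).obj ((EtCoh.pull f).obj F) := (EtCoh.pullPushAdj f).unit.app F
  let k := ((EtCoh.pull f).obj F).obj.map (EtCore.bcTopIso f).inv.op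
  have hk : Function.Bijective k := ConcreteCategory.bijective_of_isIso k
  have h : (secEq _ ∘ EtCore.Hpull f F 0) = (k ∘ η.hom.app (op (EtCoh.top Z))) ∘ secEq F := funext fun e => by
    show secEq _ (EtCore.Hpull f F 0 e) = k (η.hom.app _ (secEq F e))
    rw [L27.EtSite.Hpull_apply, secEq_HofPush]
    exact congrArg k ((congrArg (secEq _) (L27.EtSite.HF_map_apply η 0 e).symm).trans (secEq_map η e))
  rw [← (secEq ((EtCoh.pull f).obj F)).injective.of_comp_iff (EtCore.Hpull f F 0), h,
    Function.Injective.of_comp_iff' _ (secEq F).bijective, hk.1.of_comp_iff]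
  rfl

/-- Injectivity on top sections after base change, in terms of the sections of the unit. -/
theorem injective_unit_iff (h : IsPullback g' f' f v) (F : EtCoh.Ab Z) :
    Function.Injective (((EtCoh.pullPushAdj f').unit.app ((EtCoh.pull v).obj F)).hom.app (op (EtCoh.top Z'))) ↔
      Function.Injective (((EtCoh.pullPushAdj f).unit.app F).hom.app
        (op ((EtShriek.compEtale v).obj (EtCoh.top Z')))) := by
  haveI := L27.ExtZero.jCont v
  haveI := L10.EtLocalBC.isIso_baseChange0_of_etale h ((EtCoh.pull f).obj F)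
  let T := op (EtCoh.top Z')
  let η := (EtCoh.pullPushAdj f).unit.app F
  let c := EtCoh.baseChange0 f v f' g' h.w ((EtCoh.pull f).obj F)
  let k := (EtCoh.push f').map ((kap f v f' g' h.w).hom.app F)
  have hk := ConcreteCategory.bijective_of_isIso (((sheafToPresheaf _ _).map k).app T)
  have hc := ConcreteCategory.bijective_of_isIso (((sheafToPresheaf _ _).map c).app T)
  have e1 : c.hom.app T ∘ ((EtCoh.pull v).map η).hom.app T =
      k.hom.app T ∘ ((EtCoh.pullPushAdj f').unit.app ((EtCoh.pull v).obj F)).hom.app T :=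
    funext fun s => congrArg (fun m => m.hom.app T s) (unit_square f v f' g' h.w F)
  let e := L27.ExtZero.pullRestr v
  have ha := ConcreteCategory.bijective_of_isIso (((sheafToPresheaf _ _).map (e.hom.app F)).app T)
  have hb := ConcreteCategory.bijective_of_isIso
    (((sheafToPresheaf _ _).map (e.hom.app ((EtCoh.push f).obj ((EtCoh.pull f).obj F)))).app T)
  have e2 : (e.hom.app ((EtCoh.push f).obj ((EtCoh.pull f).obj F))).hom.app T ∘ ((EtCoh.pull v).map η).hom.app T =
      η.hom.app (op ((EtShriek.compEtale v).obj (EtCoh.top Z'))) ∘ (e.hom.app F).hom.app T :=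
    funext fun s => congrArg (fun m => m.hom.app T s) (e.hom.naturality η)
  exact (hk.1.of_comp_iff _).symm.trans ((iff_of_eq (congrArg _ e1)).symm.trans ((hc.1.of_comp_iff _).trans
    ((hb.1.of_comp_iff _).symm.trans ((iff_of_eq (congrArg _ e2)).trans (Function.Injective.of_comp_iff' _ ha)))))

omit [Etale v] in
theorem mono_iff_injective {A B : EtCoh.Ab Z} (φ : A ⟶ B) :
    Mono φ ↔ ∀ U : Z.Etale, Function.Injective (φ.hom.app (op U)) := by
  refine ⟨fun _ U => ?_, fun h => ?_⟩
  · haveI : Mono ((sheafToPresheaf _ _).map φ) := inferInstance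
    exact (AddCommGrpCat.mono_iff_injective _).1 ((NatTrans.mono_iff_mono_app _).1
      ‹Mono ((sheafToPresheaf _ _).map φ)› (op U))
  · haveI : ∀ U, Mono (((sheafToPresheaf _ _).map φ).app U) := fun U =>
      (AddCommGrpCat.mono_iff_injective _).2 (h U.unop)
    haveI := NatTrans.mono_of_mono_app ((sheafToPresheaf _ _).map φ)
    exact (sheafToPresheaf _ _).mono_of_mono_map this

end Groth.L28.AcycCrit
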